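import Mathlib.RingTheory.Etale.Kaehler
import Mathlib.RingTheory.RingHom.Etale

/-! # Extension of derivations along formally étale ring maps. -/

namespace Groth.Agent.LD.EtDer

section Bundled

variable {A B N : Type*} [CommRing A] [CommRing B] [Algebra A B] [Algebra.FormallyEtale A B]
  [AddCommGroup N] [Module B N] [Module A N] [IsScalarTower A B N]

/-- derivations of the base extend to a formally étale algebra. -/
theorem exists_der_ext (d : Derivation ℤ A N) :
    ∃ D : Derivation ℤ B N, ∀ a, D (algebraMap A B a) = d a := by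
  have hbc := KaehlerDifferential.isBaseChange_of_formallyEtale ℤ A B
  refine ⟨(hbc.lift d.liftKaehlerDifferential).compDer (KaehlerDifferential.D ℤ B), fun a => ?_⟩
  change hbc.lift d.liftKaehlerDifferential (KaehlerDifferential.D ℤ B (algebraMap A B a)) = d a
  rw [← KaehlerDifferential.map_D ℤ ℤ A B a, hbc.lift_eq, Derivation.liftKaehlerDifferential_comp_D]

/-- a derivation of a formally étale algebra is determined by its restriction to the base. -/
theorem der_ext_unique (D₁ D₂ : Derivation ℤ B N)
    (h : ∀ a, D₁ (algebraMap A B a) = D₂ (algebraMap A B a)) : D₁ = D₂ := by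
  have hbc := KaehlerDifferential.isBaseChange_of_formallyEtale ℤ A B
  have hL : D₁.liftKaehlerDifferential = D₂.liftKaehlerDifferential := by
    refine hbc.algHom_ext' _ _ (Derivation.liftKaehlerDifferential_unique _ _ ?_)
    ext a
    change D₁.liftKaehlerDifferential
        (KaehlerDifferential.map ℤ ℤ A B (KaehlerDifferential.D ℤ A a)) =
      D₂.liftKaehlerDifferential (KaehlerDifferential.map ℤ ℤ A B (KaehlerDifferential.D ℤ A a))
    rw [KaehlerDifferential.map_D, Derivation.liftKaehlerDifferential_comp_D,
      Derivation.liftKaehlerDifferential_comp_D]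
    exact h a
  calc D₁ = D₁.liftKaehlerDifferential.compDer (KaehlerDifferential.D ℤ B) :=
        D₁.liftKaehlerDifferential_comp.symm
    _ = D₂.liftKaehlerDifferential.compDer (KaehlerDifferential.D ℤ B) := by rw [hL]
    _ = D₂ := D₂.liftKaehlerDifferential_comp

end Bundled

/-- `D : B →+ C` is a derivation along the ring homomorphism `r : B →+* C`. -/
def IsDerAlong {B C : Type*} [CommRing B] [CommRing C] (r : B →+* C) (D : B →+ C) : Prop :=
  ∀ x y, D (x * y) = r x * D y + r y * D x

section Unbundled

variable {A B C : Type*} [CommRing A] [CommRing B] [CommRing C]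

/-- the derivation attached to a derivation along a ring homomorphism. -/
noncomputable def IsDerAlong.toDerivation {r : B →+* C} {D : B →+ C} (hD : IsDerAlong r D) :
    letI := r.toAlgebra
    Derivation ℤ B C :=
  letI := r.toAlgebra
  Derivation.mk' D.toIntLinearMap (fun a b => hD a b)

/-- two derivations along `r` which agree on the image of a formally étale `ρ` are equal. -/
theorem eq_of_isDerAlong (ρ : A →+* B) (hρ : ρ.FormallyEtale) (r : B →+* C) (D₁ D₂ : B →+ C)
    (h₁ : IsDerAlong r D₁) (h₂ : IsDerAlong r D₂) (h : ∀ a, D₁ (ρ a) = D₂ (ρ a)) : D₁ = D₂ := by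
  letI := ρ.toAlgebra
  letI := r.toAlgebra
  letI : Algebra A C := (r.comp ρ).toAlgebra
  haveI : IsScalarTower A B C := IsScalarTower.of_algebraMap_eq' rfl
  haveI : Algebra.FormallyEtale A B := hρ
  have := der_ext_unique (A := A) (B := B) (N := C) h₁.toDerivation h₂.toDerivation h
  ext x
  exact Derivation.congr_fun this x

/-- a derivation of `A` extends along a formally étale `ρ : A → B`. -/
theorem exists_isDerAlong_ext (ρ : A →+* B) (hρ : ρ.FormallyEtale) (θ : Derivation ℤ A A) :
    ∃ D : B →+ B, (∀ x y, D (x * y) = x * D y + y * D x) ∧ ∀ a, D (ρ a) = ρ (θ a) := by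
  letI := ρ.toAlgebra
  haveI : Algebra.FormallyEtale A B := hρ
  obtain ⟨D, hD⟩ := exists_der_ext (A := A) (B := B) (N := B)
    ((Algebra.linearMap A B).compDer θ)
  exact ⟨D.toLinearMap.toAddMonoidHom, fun x y => D.leibniz x y, fun a => hD a⟩

end Unbundled

end Groth.Agent.LD.EtDer
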