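import Groth.Agent.Lib.Lead.EtDer.Alg
import Groth.Agent.Lib.Lead.FBC.AffineSec
import Groth.Agent.Lib.Lead.QC.HomAffine
import Mathlib.AlgebraicGeometry.Morphisms.Etale

/-! # Derivations of the base act on the cohomology of the structure sheaf of an étale scheme. -/

universe u
open CategoryTheory Limits AlgebraicGeometry TopologicalSpace Opposite

namespace Groth.Agent.LD.EtDer
open Groth.Agent.LD.QC Groth.Agent.LD.FBC

variable {X : Scheme.{u}}

section Glue

/-- the natural transformation on the basis of affine opens attached to a compatible family of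
additive maps. -/
noncomputable def affineNatTransAdd (F G : X.Modules)
    (φ : ∀ U : X.affineOpens, Γ(F, U.1) →+ Γ(G, U.1))
    (nat : ∀ (U V : X.affineOpens) (h : V.1 ≤ U.1) (s : Γ(F, U.1)),
      G.presheaf.map (homOfLE h).op (φ U s) = φ V (F.presheaf.map (homOfLE h).op s)) :
    (inducedFunctor (Subtype.val : X.affineOpens → X.Opens)).op ⋙ F.presheaf ⟶
      (inducedFunctor (Subtype.val : X.affineOpens → X.Opens)).op ⋙ G.presheaf where
  app U := AddCommGrpCat.ofHom (φ U.unop)
  naturality U V g := by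
    ext s
    exact (nat U.unop V.unop
      (leOfHom ((inducedFunctor (Subtype.val : X.affineOpens → X.Opens)).map g.unop)) s).symm

/-- the morphism of abelian presheaves attached to a compatible family of additive maps on affine
opens. -/
noncomputable def homOfAffineAdd (F G : X.Modules)
    (φ : ∀ U : X.affineOpens, Γ(F, U.1) →+ Γ(G, U.1))
    (nat : ∀ (U V : X.affineOpens) (h : V.1 ≤ U.1) (s : Γ(F, U.1)),
      G.presheaf.map (homOfLE h).op (φ U s) = φ V (F.presheaf.map (homOfLE h).op s)) :
    F.presheaf ⟶ G.presheaf :=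
  TopCat.Sheaf.restrictHomEquivHom F.presheaf ⟨G.presheaf, G.isSheaf⟩
    (B := (Subtype.val : X.affineOpens → X.Opens))
    (by rw [Subtype.range_coe]; exact X.isBasis_affineOpens) (affineNatTransAdd F G φ nat)

lemma homOfAffineAdd_app (F G : X.Modules)
    (φ : ∀ U : X.affineOpens, Γ(F, U.1) →+ Γ(G, U.1))
    (nat : ∀ (U V : X.affineOpens) (h : V.1 ≤ U.1) (s : Γ(F, U.1)),
      G.presheaf.map (homOfLE h).op (φ U s) = φ V (F.presheaf.map (homOfLE h).op s))
    (U : X.affineOpens) (s : Γ(F, U.1)) :
    (homOfAffineAdd F G φ nat).app (op U.1) s = φ U s := by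
  have h := TopCat.Sheaf.extend_hom_app F.presheaf ⟨G.presheaf, G.isSheaf⟩
    (B := (Subtype.val : X.affineOpens → X.Opens))
    (by rw [Subtype.range_coe]; exact X.isBasis_affineOpens) (affineNatTransAdd F G φ nat) U
  exact congr($h s)

/-- two morphisms of abelian presheaves between modules agreeing on affine opens are equal. -/
theorem presheafHom_ext_affine {F G : X.Modules} (β β' : F.presheaf ⟶ G.presheaf)
    (h : ∀ (U : X.affineOpens) (s : Γ(F, U.1)), β.app (op U.1) s = β'.app (op U.1) s) :
    β = β' := by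
  ext U s
  apply section_ext_of_cover G (fun V : {V : X.affineOpens // V.1 ≤ U} => V.1.1)
    (fun V => V.2) (le_iSup_affineOpens U)
  intro V
  rw [homOfAffinePre_res, homOfAffinePre_res, h]

end Glue

section Der

variable {A : Type u} [CommRing A] (τ : A →+* Coh.Γtop X) (θ : Derivation ℤ A A)

/-- `A → Γ(X, U)`. -/
noncomputable abbrev rhoU (U : X.Opens) : A →+* Γ(X, U) := (resΓ X U).comp τ

/-- restriction of functions. -/
noncomputable abbrev resR {U V : X.Opens} (h : V ≤ U) : Γ(X, U) →+* Γ(X, V) :=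
  (X.presheaf.map (homOfLE h).op).hom

lemma resR_rhoU {U V : X.Opens} (h : V ≤ U) (a : A) : resR h (rhoU τ U a) = rhoU τ V a :=
  Coh.resTop_comp (op U) (op V) (homOfLE h).op (τ a)

variable (hρ : ∀ U : X.Opens, IsAffineOpen U → (rhoU τ U).FormallyEtale)

/-- the chosen extension of `θ` to `Γ(X, U)`, `U` affine. -/
noncomputable def derU (U : X.affineOpens) : Γ(X, U.1) →+ Γ(X, U.1) :=
  (exists_isDerAlong_ext (rhoU τ U.1) (hρ U.1 U.2) θ).choose

lemma derU_leibniz (U : X.affineOpens) (x y : Γ(X, U.1)) :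
    derU τ θ hρ U (x * y) = x * derU τ θ hρ U y + y * derU τ θ hρ U x :=
  (exists_isDerAlong_ext (rhoU τ U.1) (hρ U.1 U.2) θ).choose_spec.1 x y

lemma derU_rho (U : X.affineOpens) (a : A) :
    derU τ θ hρ U (rhoU τ U.1 a) = rhoU τ U.1 (θ a) :=
  (exists_isDerAlong_ext (rhoU τ U.1) (hρ U.1 U.2) θ).choose_spec.2 a

lemma derU_res (U V : X.affineOpens) (h : V.1 ≤ U.1) (s : Γ(X, U.1)) :
    resR h (derU τ θ hρ U s) = derU τ θ hρ V (resR h s) := by
  have := eq_of_isDerAlong (rhoU τ U.1) (hρ U.1 U.2) (resR h)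
    ((resR h).toAddMonoidHom.comp (derU τ θ hρ U))
    ((derU τ θ hρ V).comp (resR h).toAddMonoidHom)
    (fun x y => by
      change resR h (derU τ θ hρ U (x * y)) =
        resR h x * resR h (derU τ θ hρ U y) + resR h y * resR h (derU τ θ hρ U x)
      rw [derU_leibniz, map_add, map_mul, map_mul])
    (fun x y => by
      change derU τ θ hρ V (resR h (x * y)) =
        resR h x * derU τ θ hρ V (resR h y) + resR h y * derU τ θ hρ V (resR h x)
      rw [map_mul, derU_leibniz])
    (fun a => by
      change resR h (derU τ θ hρ U (rhoU τ U.1 a)) = derU τ θ hρ V (resR h (rhoU τ U.1 a))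
      rw [derU_rho, resR_rhoU, resR_rhoU, derU_rho])
  exact DFunLike.congr_fun this s

/-- the extension of `θ` to the structure sheaf, as a morphism of abelian presheaves. -/
noncomputable def derPre : (unitMod X).presheaf ⟶ (unitMod X).presheaf :=
  homOfAffineAdd (unitMod X) (unitMod X) (fun U => derU τ θ hρ U)
    (fun U V h s => derU_res τ θ hρ U V h s)

/-- the extension of `θ` to the structure sheaf, as a morphism of abelian sheaves. -/
noncomputable def derSh :
    Coh.toAb (Coh.structureModule X) ⟶ Coh.toAb (Coh.structureModule X) :=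
  ⟨derPre τ θ hρ⟩

lemma derSh_app (U : X.affineOpens) (s : Γ(X, U.1)) :
    (derSh τ θ hρ).hom.app (op U.1) s = derU τ θ hρ U s :=
  homOfAffineAdd_app (unitMod X) (unitMod X) _ _ U s

/-- the Leibniz rule for the extension of `θ` to the structure sheaf. -/
theorem smulAb_derSh (a : A) :
    Coh.smulAb (Coh.structureModule X) (τ a) ≫ derSh τ θ hρ =
      Coh.smulAb (Coh.structureModule X) (τ (θ a)) +
        derSh τ θ hρ ≫ Coh.smulAb (Coh.structureModule X) (τ a) := by
  apply Sheaf.hom_ext
  refine presheafHom_ext_affine (F := unitMod X) (G := unitMod X) _ _ (fun U s => ?_)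
  change (derSh τ θ hρ).hom.app (op U.1) (rhoU τ U.1 a * (show Γ(X, U.1) from s)) =
    rhoU τ U.1 (θ a) * (show Γ(X, U.1) from s) +
      rhoU τ U.1 a * (show Γ(X, U.1) from (derSh τ θ hρ).hom.app (op U.1) s)
  rw [derSh_app, derSh_app, derU_leibniz, derU_rho]
  have hc : (show Γ(X, U.1) from s) * rhoU τ U.1 (θ a) =
      rhoU τ U.1 (θ a) * (show Γ(X, U.1) from s) := mul_comm (G := Γ(X, U.1)) _ _
  rw [hc]
  exact add_comm (G := Γ(X, U.1)) _ _

end Der

section Main

variable {A : Type u} [CommRing A] {V : Scheme.{u}} (f : V ⟶ Spec (CommRingCat.of A)) [Etale f]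

lemma formallyEtale_rhoU (U : V.Opens) (hU : IsAffineOpen U) :
    (rhoU (Coh.toGlobal f) U).FormallyEtale := by
  have h1 : (f.appLE ⊤ U le_top).hom.Etale :=
    Etale.etale_appLE f (isAffineOpen_top _) hU le_top
  have h2 : (Scheme.ΓSpecIso (CommRingCat.of A)).inv.hom.Etale :=
    RingHom.Etale.of_bijective
      ((ConcreteCategory.isIso_iff_bijective (Scheme.ΓSpecIso (CommRingCat.of A)).inv).mp
        inferInstance)
  have h3 : ((f.appLE ⊤ U le_top).hom.comp (Scheme.ΓSpecIso (CommRingCat.of A)).inv.hom).Etale :=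
    RingHom.Etale.stableUnderComposition _ _ h2 h1
  exact (RingHom.Etale.toAlgebra h3).formallyEtale

/-- **derivations of the base act on the cohomology of the structure sheaf of an étale scheme.** -/
theorem exists_der_HH (θ : Derivation ℤ A A) (i : ℕ) :
    letI : Module A (Coh.HH V (Coh.structureModule V) i) := Module.compHom _ (Coh.toGlobal f)
    ∃ D : Coh.HH V (Coh.structureModule V) i →+ Coh.HH V (Coh.structureModule V) i,
      ∀ (a : A) (ξ : Coh.HH V (Coh.structureModule V) i), D (a • ξ) = θ a • ξ + a • D ξ := by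
  letI : Module A (Coh.HH V (Coh.structureModule V) i) := Module.compHom _ (Coh.toGlobal f)
  have hρ : ∀ U : V.Opens, IsAffineOpen U → (rhoU (Coh.toGlobal f) U).FormallyEtale :=
    fun U hU => formallyEtale_rhoU f U hU
  refine ⟨Sheaf.H.map (derSh (Coh.toGlobal f) θ hρ) i, fun a ξ => ?_⟩
  change Sheaf.H.map (derSh (Coh.toGlobal f) θ hρ) i
      (Sheaf.H.map (Coh.smulAb (Coh.structureModule V) (Coh.toGlobal f a)) i ξ) =
    Sheaf.H.map (Coh.smulAb (Coh.structureModule V) (Coh.toGlobal f (θ a))) i ξ +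
      Sheaf.H.map (Coh.smulAb (Coh.structureModule V) (Coh.toGlobal f a)) i
        (Sheaf.H.map (derSh (Coh.toGlobal f) θ hρ) i ξ)
  rw [← Sheaf.H.map_comp_apply, ← Sheaf.H.map_comp_apply, smulAb_derSh, Sheaf.H.map_add_apply]

end Main

end Groth.Agent.LD.EtDer
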